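import Groth.Prelude.Def_W4c4lgringredgrpLG
import Mathlib.Algebra.MvPolynomial.Rename
import Mathlib.LinearAlgebra.Matrix.ToLin
import Mathlib.LinearAlgebra.Matrix.NonsingularInverse
import Mathlib.LinearAlgebra.Determinant
import Mathlib.LinearAlgebra.FiniteDimensional.Basic
import Mathlib.RingTheory.Spectrum.Prime.FreeLocus
import Mathlib.RingTheory.TensorProduct.Basic
import Mathlib.RingTheory.Support

/-!
Finitely generated projective modules over LG-rings are determined by their rank.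
-/

set_option autoImplicit false
set_option linter.style.haveILetI false
universe u v v'

namespace Groth.Agent.LGRingLib

open TensorProduct

variable {R : Type u} [CommRing R]

lemma representsUnit_rename {σ : Type} [Finite σ] (hR : LGRing.IsLGRing R) (P : MvPolynomial σ R)
    (h : ∀ m : Ideal R, m.IsMaximal → ∃ s : σ → R, MvPolynomial.eval s P ∉ m) :
    ∃ s : σ → R, IsUnit (MvPolynomial.eval s P) := by
  cases nonempty_fintype σ
  let e := Fintype.equivFin σ
  obtain ⟨t, ht⟩ := hR (Fintype.card σ) (MvPolynomial.rename e P) (fun m hm => by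
    obtain ⟨s, hs⟩ := h m hm
    refine ⟨fun i => Ideal.Quotient.mk m (s (e.symm i)), ?_⟩
    rw [MvPolynomial.aeval_rename]
    have : MvPolynomial.aeval ((fun i => Ideal.Quotient.mk m (s (e.symm i))) ∘ e) P =
        Ideal.Quotient.mk m (MvPolynomial.eval s P) := by
      rw [show ((fun i => Ideal.Quotient.mk m (s (e.symm i))) ∘ e) = algebraMap R (R ⧸ m) ∘ s by
        ext i; simp]
      rw [MvPolynomial.aeval_def, ← MvPolynomial.eval₂_comp]
      rfl
    rw [this]
    letI := Ideal.Quotient.field m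
    exact Ne.isUnit fun h0 => hs (Ideal.Quotient.eq_zero_iff_mem.1 h0))
  refine ⟨t ∘ e, ?_⟩
  rwa [MvPolynomial.aeval_rename, MvPolynomial.aeval_eq_eval] at ht

variable (R) in
lemma exists_embedding (M : Type v) [AddCommGroup M] [Module R M] [Module.Finite R M]
    [Module.Projective R M] : ∃ (n : ℕ) (i : M →ₗ[R] (Fin n → R)) (p : (Fin n → R) →ₗ[R] M),
      p ∘ₗ i = LinearMap.id := by
  obtain ⟨n, p, hp⟩ := Module.Finite.exists_fin' R M
  obtain ⟨i, hi⟩ := Module.projective_lifting_property p LinearMap.id hp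
  exact ⟨n, i, p, hi⟩

section

variable {M : Type v} [AddCommGroup M] [Module R M]

lemma proj_surjective (m : Ideal R) :
    Function.Surjective (TensorProduct.mk R (R ⧸ m) M 1) :=
  TensorProduct.mk_surjective R M (R ⧸ m) Ideal.Quotient.mk_surjective

lemma functional_congr (m : Ideal R) (φ : M →ₗ[R] R) {y y' : M}
    (h : ((1 : R ⧸ m) ⊗ₜ[R] y) = (1 : R ⧸ m) ⊗ₜ[R] y') :
    Ideal.Quotient.mk m (φ y) = Ideal.Quotient.mk m (φ y') := by
  let ψ : M →ₗ[R] R ⧸ m := (Submodule.mkQ m) ∘ₗ φ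
  have := congrArg (ψ.liftBaseChange (R ⧸ m)) h
  simp only [LinearMap.liftBaseChange_tmul, one_smul] at this
  exact this

end

section

variable {M₁ : Type v} [AddCommGroup M₁] [Module R M₁] [Module.Finite R M₁] [Module.Projective R M₁]
variable {M₂ : Type v'} [AddCommGroup M₂] [Module R M₂] [Module.Finite R M₂] [Module.Projective R M₂]

lemma exists_lift_mod (m : Ideal R) [hm : m.IsMaximal]
    (hrk : Module.rankAtStalk M₁ (⟨m, hm.isPrime⟩ : PrimeSpectrum R) =
      Module.rankAtStalk M₂ (⟨m, hm.isPrime⟩ : PrimeSpectrum R)) :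
    ∃ (f : M₁ →ₗ[R] M₂) (g : M₂ →ₗ[R] M₁), ∀ x : M₁,
      ((1 : R ⧸ m) ⊗ₜ[R] g (f x)) = (1 : R ⧸ m) ⊗ₜ[R] x := by
  let q : PrimeSpectrum (R ⧸ m) := ⟨⊥, Ideal.isPrime_bot⟩
  have hq : q.comap (algebraMap R (R ⧸ m)) = ⟨m, hm.isPrime⟩ :=
    PrimeSpectrum.ext (Ideal.mk_ker (I := m))
  letI := Ideal.Quotient.field m
  have key : Module.finrank (R ⧸ m) ((R ⧸ m) ⊗[R] M₁) = Module.finrank (R ⧸ m) ((R ⧸ m) ⊗[R] M₂) := by
    have h₁ := Module.rankAtStalk_baseChange (R := R) (M := M₁) (S := R ⧸ m) q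
    have h₂ := Module.rankAtStalk_baseChange (R := R) (M := M₂) (S := R ⧸ m) q
    rw [hq, Module.rankAtStalk_eq_finrank_of_free] at h₁ h₂
    simp only [Pi.natCast_apply, Nat.cast_id] at h₁ h₂
    rw [h₁, h₂, hrk]
  let φ := LinearEquiv.ofFinrankEq _ _ key
  obtain ⟨f, hf⟩ := Module.projective_lifting_property (TensorProduct.mk R (R ⧸ m) M₂ 1)
    ((φ.toLinearMap.restrictScalars R) ∘ₗ TensorProduct.mk R (R ⧸ m) M₁ 1) (proj_surjective m)
  obtain ⟨g, hg⟩ := Module.projective_lifting_property (TensorProduct.mk R (R ⧸ m) M₁ 1)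
    ((φ.symm.toLinearMap.restrictScalars R) ∘ₗ TensorProduct.mk R (R ⧸ m) M₂ 1) (proj_surjective m)
  refine ⟨f, g, fun x => ?_⟩
  have h1 := DFunLike.congr_fun hf x
  have h2 := DFunLike.congr_fun hg (f x)
  simp only [LinearMap.comp_apply, TensorProduct.mk_apply, LinearMap.restrictScalars_apply,
    LinearEquiv.coe_coe] at h1 h2
  rw [h2, h1, φ.symm_apply_apply]

/-- Over an LG-ring there are `f`, `g` with `g ∘ f` bijective, given equal ranks. -/
lemma exists_comp_bijective (hR : LGRing.IsLGRing R)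
    (hrk : ∀ p : PrimeSpectrum R, Module.rankAtStalk M₁ p = Module.rankAtStalk M₂ p) :
    ∃ (f : M₁ →ₗ[R] M₂) (g : M₂ →ₗ[R] M₁), Function.Bijective (g ∘ₗ f) := by
  classical
  obtain ⟨n₁, i₁, p₁, h₁⟩ := exists_embedding R M₁
  obtain ⟨n₂, i₂, p₂, h₂⟩ := exists_embedding R M₂
  let P₁ := LinearMap.toMatrix' (i₁ ∘ₗ p₁)
  let P₂ := LinearMap.toMatrix' (i₂ ∘ₗ p₂)
  let σ := (Fin n₂ × Fin n₁) ⊕ (Fin n₁ × Fin n₂)
  let Em : Matrix (Fin n₂) (Fin n₁) R → Matrix (Fin n₁) (Fin n₂) R → Matrix (Fin n₁) (Fin n₁) R :=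
    fun A B => 1 - P₁ + P₁ * B * P₂ * A * P₁
  let XA : Matrix (Fin n₂) (Fin n₁) (MvPolynomial σ R) := Matrix.of fun i j => MvPolynomial.X (Sum.inl (i, j))
  let XB : Matrix (Fin n₁) (Fin n₂) (MvPolynomial σ R) := Matrix.of fun i j => MvPolynomial.X (Sum.inr (i, j))
  let P : MvPolynomial σ R := (1 - P₁.map (MvPolynomial.C : R →+* MvPolynomial σ R) +
    P₁.map (MvPolynomial.C : R →+* MvPolynomial σ R) * XB * P₂.map (MvPolynomial.C : R →+* MvPolynomial σ R) *
      XA * P₁.map (MvPolynomial.C : R →+* MvPolynomial σ R)).det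
  have hP : ∀ s : σ → R, MvPolynomial.eval s P =
      (Em (Matrix.of fun i j => s (Sum.inl (i, j))) (Matrix.of fun i j => s (Sum.inr (i, j)))).det := by
    intro s
    rw [RingHom.map_det]
    congr 1
    have hC : ∀ {a b : ℕ} (Q : Matrix (Fin a) (Fin b) R),
        (Q.map MvPolynomial.C).map (MvPolynomial.eval s) = Q := fun Q => by ext i j; simp
    have hA : XA.map (MvPolynomial.eval s) = Matrix.of fun i j => s (Sum.inl (i, j)) := by
      ext i j; simp [XA]
    have hB : XB.map (MvPolynomial.eval s) = Matrix.of fun i j => s (Sum.inr (i, j)) := by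
      ext i j; simp [XB]
    simp only [RingHom.mapMatrix_apply, Matrix.map_mul, hC, hA, hB,
      Matrix.map_add _ (map_add (MvPolynomial.eval s)), Matrix.map_sub _ (map_sub (MvPolynomial.eval s)),
      Matrix.map_one _ (map_zero (MvPolynomial.eval s)) (map_one (MvPolynomial.eval s)), Em]
  have hmul : ∀ A B x, Matrix.toLin' (Em A B) x = x - i₁ (p₁ x) +
      i₁ ((p₁ ∘ₗ Matrix.toLin' B ∘ₗ i₂) ((p₂ ∘ₗ Matrix.toLin' A ∘ₗ i₁) (p₁ x))) := by
    intro A B x
    simp [Em, P₁, P₂, Matrix.toLin'_mul]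
  obtain ⟨s, hs⟩ := representsUnit_rename hR P (fun m hm => by
    obtain ⟨f, g, hfg⟩ := exists_lift_mod (M₁ := M₁) (M₂ := M₂) m (hrk _)
    let A := LinearMap.toMatrix' (i₂ ∘ₗ f ∘ₗ p₁)
    let B := LinearMap.toMatrix' (i₁ ∘ₗ g ∘ₗ p₂)
    refine ⟨Sum.elim (fun x => A x.1 x.2) (fun x => B x.1 x.2), ?_⟩
    rw [hP]
    show (Em (Matrix.of fun i j => A i j) (Matrix.of fun i j => B i j)).det ∉ m
    have hz : ∀ z, p₁ (i₁ z) = z := fun z => DFunLike.congr_fun h₁ z
    have hw : ∀ z, p₂ (i₂ z) = z := fun z => DFunLike.congr_fun h₂ z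
    have hE : (Em A B).map (Ideal.Quotient.mk m) = 1 := by
      ext i j
      have e1 := hmul A B (Pi.single j 1)
      rw [Matrix.toLin'_apply, Matrix.mulVec_single_one] at e1
      have e2 : (Em A B) i j = (Pi.single j (1 : R) : Fin n₁ → R) i - i₁ (p₁ (Pi.single j 1)) i +
          i₁ (g (f (p₁ (Pi.single j 1)))) i := by
        have := congrFun e1 i
        simpa [A, B, hz, hw] using this
      have e3 := functional_congr m ((LinearMap.proj i).comp i₁) (hfg (p₁ (Pi.single j 1)))
      rw [Matrix.map_apply, e2, map_add, map_sub]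
      simp only [LinearMap.comp_apply, LinearMap.proj_apply] at e3
      rw [e3, sub_add_cancel]
      rcases eq_or_ne i j with rfl | hij
      · simp
      · simp [hij, Matrix.one_apply_ne hij]
    intro hmem
    have h4 := Ideal.Quotient.eq_zero_iff_mem.2 hmem
    rw [RingHom.map_det, RingHom.mapMatrix_apply] at h4
    have : (Matrix.of fun i j => A i j) = A := rfl
    have : (Matrix.of fun i j => B i j) = B := rfl
    rw [show (Em (Matrix.of fun i j => A i j) (Matrix.of fun i j => B i j)) = Em A B from rfl, hE,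
      Matrix.det_one] at h4
    exact one_ne_zero h4)
  let A : Matrix (Fin n₂) (Fin n₁) R := Matrix.of fun i j => s (Sum.inl (i, j))
  let B : Matrix (Fin n₁) (Fin n₂) R := Matrix.of fun i j => s (Sum.inr (i, j))
  let f := p₂ ∘ₗ Matrix.toLin' A ∘ₗ i₁
  let g := p₁ ∘ₗ Matrix.toLin' B ∘ₗ i₂
  have hz : ∀ z, p₁ (i₁ z) = z := fun z => DFunLike.congr_fun h₁ z
  have hu : IsUnit (Em A B) := (Matrix.isUnit_iff_isUnit_det _).2 (hP s ▸ hs)
  refine ⟨f, g, ?_, ?_⟩
  · intro x y hxy
    apply Function.LeftInverse.injective (g := p₁) hz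
    apply (Matrix.mulVec_injective_of_isUnit hu)
    rw [← Matrix.toLin'_apply, ← Matrix.toLin'_apply, hmul, hmul, hz, hz]
    simp only [sub_self, zero_add]
    exact congrArg i₁ hxy
  · intro x
    obtain ⟨z, hz'⟩ := (Matrix.mulVec_surjective_iff_isUnit.2 hu) (i₁ x)
    rw [← Matrix.toLin'_apply, hmul] at hz'
    refine ⟨p₁ z, ?_⟩
    have h5 := congrArg p₁ hz'
    simp only [map_add, map_sub, hz, sub_self, zero_add] at h5
    exact h5

/-- Over an LG-ring finitely generated projective modules with equal ranks are isomorphic. -/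
theorem nonempty_linearEquiv_of_rank_eq (hR : LGRing.IsLGRing R)
    (hrk : ∀ p : PrimeSpectrum R, Module.rankAtStalk M₁ p = Module.rankAtStalk M₂ p) :
    Nonempty (M₁ ≃ₗ[R] M₂) := by
  obtain ⟨f, g, hb⟩ := exists_comp_bijective (M₁ := M₁) (M₂ := M₂) hR hrk
  let e := LinearEquiv.ofBijective (g ∘ₗ f) hb
  let r : M₂ →ₗ[R] M₁ := e.symm.toLinearMap ∘ₗ g
  have hr : ∀ x, r (f x) = x := fun x => e.symm_apply_apply x
  let K := LinearMap.ker r
  let π : M₂ →ₗ[R] K := LinearMap.codRestrict K (LinearMap.id - f ∘ₗ r) (fun y => by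
    simp [K, LinearMap.mem_ker, hr])
  have hπ : π ∘ₗ K.subtype = LinearMap.id := by
    ext ⟨y, hy⟩
    simp [π, LinearMap.mem_ker.1 hy]
  have : Module.Projective R K := Module.Projective.of_split K.subtype π hπ
  have : Module.Finite R K := Module.Finite.of_surjective π (fun y => ⟨y, DFunLike.congr_fun hπ y⟩)
  let d : M₂ ≃ₗ[R] M₁ × K := LinearEquiv.ofLinearMap (r.prod π) (f.coprod K.subtype)
    (by
      ext x
      · simp [hr]
      · simp [π, hr]
      · simp [LinearMap.mem_ker.1 x.2]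
      · simp [π, LinearMap.mem_ker.1 x.2])
    (by ext y; simp [π])
  have hK : Module.rankAtStalk (R := R) K = 0 := by
    funext p
    have h := congrFun ((Module.rankAtStalk_eq_of_equiv d).trans (Module.rankAtStalk_prod M₁ K)) p
    rw [Pi.add_apply, ← hrk p] at h
    show Module.rankAtStalk (R := R) K p = 0
    omega
  have : Subsingleton K := Module.rankAtStalk_eq_zero_iff_subsingleton.1 hK
  refine ⟨LinearEquiv.ofBijective f ⟨Function.LeftInverse.injective (g := r) hr, fun y => ?_⟩⟩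
  refine ⟨r y, ?_⟩
  have : π y = 0 := Subsingleton.elim _ _
  have h := congrArg Subtype.val this
  simp only [π, LinearMap.codRestrict_apply, LinearMap.sub_apply, LinearMap.id_apply, LinearMap.comp_apply,
    ZeroMemClass.coe_zero, sub_eq_zero] at h
  exact h.symm

end

/-- A faithful finitely generated projective module over an LG-ring has a unimodular element. -/
theorem exists_unimodular (hR : LGRing.IsLGRing R) (M : Type v) [AddCommGroup M] [Module R M]
    [Module.Finite R M] [Module.Projective R M] [FaithfulSMul R M] :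
    ∃ (x : M) (f : Module.Dual R M), f x = 1 := by
  classical
  obtain ⟨n, i, p, h⟩ := exists_embedding R M
  let Q := LinearMap.toMatrix' (i ∘ₗ p)
  let P : MvPolynomial (Fin n ⊕ Fin n) R :=
    ∑ k, MvPolynomial.X (Sum.inr k) * ∑ l, MvPolynomial.C (Q k l) * MvPolynomial.X (Sum.inl l)
  have hP : ∀ s, MvPolynomial.eval s P = ∑ k, s (Sum.inr k) * i (p (fun l => s (Sum.inl l))) k := fun s => by
    have := (LinearMap.toMatrix'_mulVec (i ∘ₗ p) (fun l => s (Sum.inl l)))
    simp only [LinearMap.comp_apply] at this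
    simp [P, ← this, Q, Matrix.mulVec, dotProduct]
  obtain ⟨s, u, hu⟩ := representsUnit_rename hR P (fun m hm => by
    by_contra hcon
    push Not at hcon
    have hall : ∀ (x : M) (k : Fin n), i x k ∈ m := fun x k => by
      have := hcon (Sum.elim (i x) (Pi.single k 1))
      rw [hP] at this
      simpa [Pi.single_apply, show p (i x) = x from DFunLike.congr_fun h x] using this
    have hsub : Subsingleton ((R ⧸ m) ⊗[R] M) := ⟨fun a b => by
      have hx : ∀ x : M, (1 : R ⧸ m) ⊗ₜ[R] x = 0 := fun x => by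
        conv_lhs => rw [← show p (i x) = x from DFunLike.congr_fun h x, pi_eq_sum_univ (i x)]
        simp only [map_sum, map_smul, TensorProduct.tmul_sum, TensorProduct.tmul_smul]
        refine Finset.sum_eq_zero fun k _ => ?_
        rw [TensorProduct.smul_tmul', Algebra.smul_def, Ideal.Quotient.algebraMap_eq,
          Ideal.Quotient.eq_zero_iff_mem.2 (hall x k), zero_mul, TensorProduct.zero_tmul]
      obtain ⟨a, rfl⟩ := proj_surjective m a
      obtain ⟨b, rfl⟩ := proj_surjective m b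
      simp [hx]⟩
    let q : PrimeSpectrum (R ⧸ m) := ⟨⊥, Ideal.isPrime_bot⟩
    letI := Ideal.Quotient.field m
    have h1 := Module.rankAtStalk_baseChange (R := R) (M := M) (S := R ⧸ m) q
    rw [Module.rankAtStalk_eq_zero_of_subsingleton] at h1
    have h2 : q.comap (algebraMap R (R ⧸ m)) ∈ Module.support R M := by
      rw [Module.support_eq_zeroLocus, Module.annihilator_eq_bot.2 inferInstance]
      simp
    exact (Module.rankAtStalk_pos_iff_mem_support _).2 h2 |>.ne h1)
  refine ⟨p (fun l => s (Sum.inl l)),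
    (↑u⁻¹ : R) • (∑ k, s (Sum.inr k) • ((LinearMap.proj k).comp i)), ?_⟩
  simp only [LinearMap.smul_apply, LinearMap.sum_apply, LinearMap.comp_apply, LinearMap.proj_apply,
    smul_eq_mul, ← hP s, ← hu, Units.inv_mul]

end Groth.Agent.LGRingLib
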