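/-
Projective modules over Azumaya algebras over LG rings; cancellation of Azumaya algebras.
-/
import Groth.Agent.LGRing.Cancel
import Groth.Agent.Azumaya.Basic
import Groth.Agent.Azumaya.CSA
import Groth.Agent.Azumaya.Fibre
import Mathlib.RingTheory.SimpleModule.Isotypic
import Mathlib.LinearAlgebra.Dual.BaseChange

set_option autoImplicit false
set_option linter.style.haveILetI false
set_option backward.isDefEq.respectTransparency false

universe u v w w' z

open TensorProduct

noncomputable section

namespace Groth.Agent.LGAz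

theorem exists_split_of_finrank_le (k : Type u) [Field k] (T : Type w) [Ring T] [Algebra k T] [IsSimpleRing T]
    [IsArtinianRing T] (M N : Type v) [AddCommGroup M] [AddCommGroup N] [Module k M] [Module k N]
    [Module T M] [Module T N] [IsScalarTower k T M] [IsScalarTower k T N] [FiniteDimensional k M]
    [FiniteDimensional k N] (h : Module.finrank k N ≤ Module.finrank k M) :
    ∃ (f : M →ₗ[T] N) (g : N →ₗ[T] M), f ∘ₗ g = LinearMap.id := by
  have : Module.Finite T M := Module.Finite.of_restrictScalars_finite k T M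
  have : Module.Finite T N := Module.Finite.of_restrictScalars_finite k T N
  rcases subsingleton_or_nontrivial N with hN | hN
  · exact ⟨0, 0, LinearMap.ext fun y => Subsingleton.elim _ _⟩
  have hM : Nontrivial M := Module.finrank_pos_iff.1 (lt_of_lt_of_le Module.finrank_pos h)
  obtain ⟨m, hm0, S, hS, ⟨e⟩⟩ := (IsSimpleRing.isIsotypic T M).linearEquiv_fun
  obtain ⟨n, hn0, S', hS', ⟨e'⟩⟩ := (IsSimpleRing.isIsotypic T N).linearEquiv_fun
  let i : S →ₗ[T] M × N := (LinearMap.inl T M N).comp S.subtype
  let i' : S' →ₗ[T] M × N := (LinearMap.inr T M N).comp S'.subtype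
  have hi : Function.Injective i := LinearMap.inl_injective.comp S.subtype_injective
  have hi' : Function.Injective i' := LinearMap.inr_injective.comp S'.subtype_injective
  have : IsSimpleModule T (LinearMap.range i) := IsSimpleModule.congr (LinearEquiv.ofInjective i hi).symm
  have : IsSimpleModule T (LinearMap.range i') := IsSimpleModule.congr (LinearEquiv.ofInjective i' hi').symm
  obtain ⟨j⟩ := IsSimpleRing.isIsotypic T (M × N) (LinearMap.range i) (LinearMap.range i')
  let s : S' ≃ₗ[T] S := (LinearEquiv.ofInjective i' hi').trans (j.trans (LinearEquiv.ofInjective i hi).symm)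
  have : Nontrivial S := IsSimpleModule.nontrivial T S
  have : Module.Finite k S := Module.Finite.of_injective (S.subtype.restrictScalars k) S.subtype_injective
  have : Module.Finite k S' := Module.Finite.of_injective (S'.subtype.restrictScalars k) S'.subtype_injective
  have hnm : n ≤ m := by
    have h1 := (e.restrictScalars k).finrank_eq
    have h2 := (e'.restrictScalars k).finrank_eq
    rw [Module.finrank_pi_fintype] at h1 h2
    rw [h1, h2, Finset.sum_const, Finset.sum_const, Finset.card_univ, Finset.card_univ, Fintype.card_fin,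
      Fintype.card_fin, smul_eq_mul, smul_eq_mul, (s.restrictScalars k).finrank_eq] at h
    exact Nat.le_of_mul_le_mul_right h Module.finrank_pos
  classical
  let π : (Fin m → S) →ₗ[T] (Fin n → S) := LinearMap.funLeft T S (Fin.castLE hnm)
  let σ : (Fin n → S) →ₗ[T] (Fin m → S) :=
    LinearMap.pi fun l => if hl : l.val < n then LinearMap.proj (⟨l.val, hl⟩ : Fin n) else 0
  have hπσ : ∀ x, π (σ x) = x := fun x => funext fun l => by
    simp only [π, σ, LinearMap.funLeft_apply, LinearMap.pi_apply, Fin.val_castLE, dif_pos l.isLt,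
      LinearMap.proj_apply]
  let e'' : N ≃ₗ[T] (Fin n → S) := e'.trans (LinearEquiv.piCongrRight fun _ => s)
  refine ⟨e''.symm.toLinearMap ∘ₗ π ∘ₗ e.toLinearMap, e.symm.toLinearMap ∘ₗ σ ∘ₗ e''.toLinearMap,
    LinearMap.ext fun y => ?_⟩
  simp [hπσ]

variable {R : Type u} [CommRing R] {A : Type z} [Ring A] [Algebra R A]

section Dual

/-- Base change of the dual of a finite projective module. -/
theorem finrank_dual_field {M : Type v} [AddCommGroup M] [Module R M] [Module.Finite R M] [Module.Projective R M]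
    (K : Type u) [Field K] [Algebra R K] :
    Module.finrank K (K ⊗[R] Module.Dual R M) = Module.finrank K (K ⊗[R] M) := by
  obtain ⟨n, g, f, -, -, hgf⟩ := Module.Finite.exists_comp_eq_id_of_projective R M
  have hx : ∀ a : M, a = ∑ i, f a i • g (Pi.single i 1) := fun a => by
    conv_lhs => rw [← LinearMap.id_apply (R := R) a, ← hgf, LinearMap.comp_apply, pi_eq_sum_univ' (f a)]
    simp
  let F : K ⊗[R] Module.Dual R M →ₗ[K] Module.Dual K (K ⊗[R] M) :=
    ((Module.Dual.baseChange K : Module.Dual R M →ₗ[R] Module.Dual K (K ⊗[R] M))).liftBaseChange K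
  have hF : ∀ (c : K) (φ : Module.Dual R M) (a : M),
      F (c ⊗ₜ φ) ((1 : K) ⊗ₜ a) = φ a • c := fun c φ a => by
    simp [F, Module.Dual.baseChange_apply_tmul, Algebra.smul_def, mul_comm]
  let G : Module.Dual K (K ⊗[R] M) → K ⊗[R] Module.Dual R M := fun θ =>
    ∑ i, θ ((1 : K) ⊗ₜ g (Pi.single i 1)) ⊗ₜ[R] (LinearMap.proj i ∘ₗ f)
  have hleft : Function.LeftInverse G F := by
    intro z
    induction z using TensorProduct.induction_on with
    | zero => simp [G]
    | add y z hy hz => simp only [G, map_add, LinearMap.add_apply, TensorProduct.add_tmul,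
        Finset.sum_add_distrib] at hy hz ⊢; rw [hy, hz]
    | tmul c φ =>
      simp only [G, hF, TensorProduct.smul_tmul, ← TensorProduct.tmul_sum]
      congr 1
      refine LinearMap.ext fun a => ?_
      conv_rhs => rw [hx a]
      simp [mul_comm]
  have hright : Function.RightInverse G F := by
    intro θ
    refine TensorProduct.AlgebraTensorModule.ext fun c a => ?_
    rw [show c ⊗ₜ[R] a = c • ((1 : K) ⊗ₜ[R] a) by simp [TensorProduct.smul_tmul'], map_smul, map_smul]
    congr 1
    simp only [G, map_sum, LinearMap.sum_apply, hF]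
    conv_rhs => rw [hx a, TensorProduct.tmul_sum, map_sum]
    simp [LinearMap.map_smul_of_tower]
  rw [(LinearEquiv.ofBijective F ⟨hleft.injective, hright.surjective⟩).finrank_eq, Subspace.dual_finrank_eq]

theorem rankAtStalk_dual' {M : Type v} [AddCommGroup M] [Module R M] [Module.Finite R M] [Module.Projective R M]
    (p : PrimeSpectrum R) : Module.rankAtStalk (R := R) (Module.Dual R M) p = Module.rankAtStalk (R := R) M p := by
  haveI : Module.Flat R M := Module.Flat.of_projective
  haveI : Module.Flat R (Module.Dual R M) := Module.Flat.of_projective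
  let K := p.asIdeal.ResidueField
  let q : PrimeSpectrum K := ⟨⊥, Ideal.isPrime_bot⟩
  have hq : q.comap (algebraMap R K) = p := PrimeSpectrum.ext (Ideal.ker_algebraMap_residueField (I := p.asIdeal))
  have h₁ := Module.rankAtStalk_baseChange (R := R) (M := M) (S := K) q
  have h₂ := Module.rankAtStalk_baseChange (R := R) (M := Module.Dual R M) (S := K) q
  rw [hq, Module.rankAtStalk_eq_finrank_of_free] at h₁ h₂
  simp only [Pi.natCast_apply, Nat.cast_id] at h₁ h₂
  rw [← h₁, ← h₂, finrank_dual_field]

theorem rankAtStalk_end (V : Type v) [AddCommGroup V] [Module R V] [Module.Finite R V] [Module.Projective R V]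
    (p : PrimeSpectrum R) : Module.rankAtStalk (R := R) (Module.End R V) p =
      Module.rankAtStalk (R := R) V p * Module.rankAtStalk (R := R) V p := by
  haveI : Module.Flat R V := Module.Flat.of_projective
  haveI : Module.Flat R (Module.Dual R V) := Module.Flat.of_projective
  have h1 := congrFun (Module.rankAtStalk_eq_of_equiv (M := Module.Dual R V ⊗[R] V) (N := Module.End R V)
    (dualTensorHomEquiv R V V)) p
  rw [Module.rankAtStalk_tensorProduct, Pi.mul_apply, rankAtStalk_dual'] at h1
  exact h1.symm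

end Dual

section Rep

variable (M : Type v) [AddCommGroup M] [Module R M] [Module A M] [IsScalarTower R A M]

theorem projective_restrict [Module.Finite A M] [Module.Projective A M] [Module.Projective R A] :
    Module.Projective R M := by
  obtain ⟨s, p, hp⟩ := Module.Finite.exists_fin' A M
  haveI : Module.Projective R (Fin s → A) := Module.Projective.of_equiv
    (DFinsupp.linearEquivFunOnFintype (R := R) (M := fun _ : Fin s => A))
  obtain ⟨i, hi⟩ := Module.projective_lifting_property p LinearMap.id hp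
  exact Module.Projective.of_split (i.restrictScalars R) (p.restrictScalars R)
    (LinearMap.ext fun x => DFunLike.congr_fun hi x)

variable (k : Type w) [CommRing k] [Algebra R k]

/-- the action of the base change of `A` on the base change of `M` -/
def act : k ⊗[R] A →ₐ[k] Module.End k (k ⊗[R] M) :=
  Algebra.TensorProduct.lift (Algebra.ofId k _)
    ({ toFun := fun a => ((Algebra.lsmul R R M : A →ₐ[R] Module.End R M) a).baseChange k
       map_one' := by rw [map_one, Module.End.one_eq_id, LinearMap.baseChange_id]; rfl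
       map_mul' := fun a b => by rw [map_mul, Module.End.mul_eq_comp, LinearMap.baseChange_comp]; rfl
       map_zero' := by rw [map_zero, LinearMap.baseChange_zero]
       map_add' := fun a b => by rw [map_add, LinearMap.baseChange_add]
       commutes' := fun r => by
         rw [AlgHom.commutes]
         refine TensorProduct.AlgebraTensorModule.ext fun c x => ?_
         rw [LinearMap.baseChange_tmul, Module.algebraMap_end_apply, Module.algebraMap_end_apply,
           TensorProduct.tmul_smul] } : A →ₐ[R] Module.End k (k ⊗[R] M))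
    fun c a => Algebra.commutes c _

theorem act_tmul (c c' : k) (a : A) (x : M) : act M k (c ⊗ₜ[R] a) (c' ⊗ₜ[R] x) = (c * c') ⊗ₜ[R] (a • x) := by
  rw [act, Algebra.TensorProduct.lift_tmul]
  show c • (((Algebra.lsmul R R M : A →ₐ[R] Module.End R M) a).baseChange k (c' ⊗ₜ[R] x)) = _
  rw [LinearMap.baseChange_tmul, TensorProduct.smul_tmul', smul_eq_mul]
  rfl

end Rep

section Split

variable {M : Type v} [AddCommGroup M] [Module R M] [Module A M] [IsScalarTower R A M] [Module.Finite A M]
  [Module.Projective A M] {N : Type v} [AddCommGroup N] [Module R N] [Module A N] [IsScalarTower R A N]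
  [Module.Finite A N] [Module.Projective A N]

theorem exists_lift_mod [IsAzumaya R A] (m : Ideal R) [hm : m.IsMaximal]
    (hrk : Module.rankAtStalk N (⟨m, hm.isPrime⟩ : PrimeSpectrum R) ≤
      Module.rankAtStalk M (⟨m, hm.isPrime⟩ : PrimeSpectrum R)) :
    ∃ (f : M →ₗ[A] N) (g : N →ₗ[A] M), ∀ y : N, ((1 : R ⧸ m) ⊗ₜ[R] f (g y)) = (1 : R ⧸ m) ⊗ₜ[R] y := by
  letI := Ideal.Quotient.field m
  haveI := Module.Finite.trans (R := R) A M
  haveI := Module.Finite.trans (R := R) A N
  haveI := projective_restrict (R := R) (A := A) M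
  haveI := projective_restrict (R := R) (A := A) N
  let q : PrimeSpectrum (R ⧸ m) := ⟨⊥, Ideal.isPrime_bot⟩
  have hq : q.comap (algebraMap R (R ⧸ m)) = ⟨m, hm.isPrime⟩ := PrimeSpectrum.ext (Ideal.mk_ker (I := m))
  have key : Module.finrank (R ⧸ m) ((R ⧸ m) ⊗[R] N) ≤ Module.finrank (R ⧸ m) ((R ⧸ m) ⊗[R] M) := by
    have h₁ := Module.rankAtStalk_baseChange (R := R) (M := M) (S := R ⧸ m) q
    have h₂ := Module.rankAtStalk_baseChange (R := R) (M := N) (S := R ⧸ m) q
    rw [hq, Module.rankAtStalk_eq_finrank_of_free] at h₁ h₂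
    simp only [Pi.natCast_apply, Nat.cast_id] at h₁ h₂
    rw [h₁, h₂]; exact hrk
  haveI := Azumaya.isAzumaya_baseChange (R := R) (A := A) (R ⧸ m)
  obtain ⟨-, _⟩ := Azumaya.csa_of_isAzumaya (R ⧸ m) ((R ⧸ m) ⊗[R] A)
  haveI := IsArtinianRing.of_finite (R ⧸ m) ((R ⧸ m) ⊗[R] A)
  letI : Module ((R ⧸ m) ⊗[R] A) ((R ⧸ m) ⊗[R] M) := Module.compHom _ (act M (R ⧸ m)).toRingHom
  letI : Module ((R ⧸ m) ⊗[R] A) ((R ⧸ m) ⊗[R] N) := Module.compHom _ (act N (R ⧸ m)).toRingHom
  haveI : IsScalarTower (R ⧸ m) ((R ⧸ m) ⊗[R] A) ((R ⧸ m) ⊗[R] M) := ⟨fun c t x => by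
    show act M (R ⧸ m) (c • t) x = c • act M (R ⧸ m) t x
    rw [map_smul]; rfl⟩
  haveI : IsScalarTower (R ⧸ m) ((R ⧸ m) ⊗[R] A) ((R ⧸ m) ⊗[R] N) := ⟨fun c t x => by
    show act N (R ⧸ m) (c • t) x = c • act N (R ⧸ m) t x
    rw [map_smul]; rfl⟩
  obtain ⟨f₀, g₀, hfg⟩ := exists_split_of_finrank_le (R ⧸ m) ((R ⧸ m) ⊗[R] A) ((R ⧸ m) ⊗[R] M) ((R ⧸ m) ⊗[R] N) key
  -- the reduction maps are linear over `A`
  let incl : A →ₐ[R] (R ⧸ m) ⊗[R] A := Algebra.TensorProduct.includeRight
  letI : Module A ((R ⧸ m) ⊗[R] M) := Module.compHom _ ((act M (R ⧸ m)).toRingHom.comp incl.toRingHom)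
  letI : Module A ((R ⧸ m) ⊗[R] N) := Module.compHom _ ((act N (R ⧸ m)).toRingHom.comp incl.toRingHom)
  let qM : M →ₗ[A] (R ⧸ m) ⊗[R] M :=
    { toFun := fun x => (1 : R ⧸ m) ⊗ₜ[R] x
      map_add' := fun x y => TensorProduct.tmul_add _ _ _
      map_smul' := fun a x => by
        show (1 : R ⧸ m) ⊗ₜ[R] (a • x) = act M (R ⧸ m) ((1 : R ⧸ m) ⊗ₜ[R] a) ((1 : R ⧸ m) ⊗ₜ[R] x)
        rw [act_tmul, mul_one] }
  let qN : N →ₗ[A] (R ⧸ m) ⊗[R] N :=
    { toFun := fun x => (1 : R ⧸ m) ⊗ₜ[R] x
      map_add' := fun x y => TensorProduct.tmul_add _ _ _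
      map_smul' := fun a x => by
        show (1 : R ⧸ m) ⊗ₜ[R] (a • x) = act N (R ⧸ m) ((1 : R ⧸ m) ⊗ₜ[R] a) ((1 : R ⧸ m) ⊗ₜ[R] x)
        rw [act_tmul, mul_one] }
  let f₁ : M →ₗ[A] (R ⧸ m) ⊗[R] N :=
    { toFun := fun x => f₀ (qM x)
      map_add' := fun x y => by rw [map_add, map_add]
      map_smul' := fun a x => by
        rw [map_smul]
        exact f₀.map_smul (incl a) (qM x) }
  let g₁ : N →ₗ[A] (R ⧸ m) ⊗[R] M :=
    { toFun := fun x => g₀ (qN x)
      map_add' := fun x y => by rw [map_add, map_add]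
      map_smul' := fun a x => by
        rw [map_smul]
        exact g₀.map_smul (incl a) (qN x) }
  obtain ⟨f, hf⟩ := Module.projective_lifting_property qN f₁ (LGRingLib.proj_surjective m)
  obtain ⟨g, hg⟩ := Module.projective_lifting_property qM g₁ (LGRingLib.proj_surjective m)
  refine ⟨f, g, fun y => ?_⟩
  have h1 : qN (f (g y)) = f₀ (qM (g y)) := DFunLike.congr_fun hf (g y)
  have h2 : qM (g y) = g₀ (qN y) := DFunLike.congr_fun hg y
  show qN (f (g y)) = qN y
  rw [h1, h2]
  exact DFunLike.congr_fun hfg (qN y)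

/-- Over an LG ring, a module over an Azumaya algebra of smaller rank is a direct summand. -/
theorem exists_split_surjection [IsAzumaya R A] (hR : LGRing.IsLGRing R)
    (hrk : ∀ p : PrimeSpectrum R, Module.rankAtStalk N p ≤ Module.rankAtStalk M p) :
    ∃ (f : M →ₗ[A] N) (g : N →ₗ[A] M), f ∘ₗ g = LinearMap.id := by
  classical
  haveI := Module.Finite.trans (R := R) A M
  haveI := Module.Finite.trans (R := R) A N
  haveI := projective_restrict (R := R) (A := A) M
  haveI := projective_restrict (R := R) (A := A) N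
  obtain ⟨n, iR, pR, hR'⟩ := LGRingLib.exists_embedding R N
  obtain ⟨s, pM, hpM⟩ := Module.Finite.exists_fin' A M
  obtain ⟨iM, hiM⟩ := Module.projective_lifting_property pM LinearMap.id hpM
  obtain ⟨s', pN, hpN⟩ := Module.Finite.exists_fin' A N
  obtain ⟨iN, hiN⟩ := Module.projective_lifting_property pN LinearMap.id hpN
  obtain ⟨cN, wN, hwN⟩ := Module.Finite.exists_fin (R := R) (M := N)
  obtain ⟨cM, wM, hwM⟩ := Module.Finite.exists_fin (R := R) (M := M)
  let F : Fin s × Fin cN → (M →ₗ[A] N) := fun a => ((LinearMap.proj a.1).comp iM).smulRight (wN a.2)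
  let G : Fin s' × Fin cM → (N →ₗ[A] M) := fun b => ((LinearMap.proj b.1).comp iN).smulRight (wM b.2)
  have hF : ∀ f : M →ₗ[A] N, ∃ c : Fin s × Fin cN → R, ∀ x, f x = ∑ a, c a • F a x := by
    intro f
    have h : ∀ j, f (pM (Pi.single j 1)) ∈ Submodule.span R (Set.range wN) := fun j => by rw [hwN]; trivial
    choose c hc using fun j => (Submodule.mem_span_range_iff_exists_fun R).1 (h j)
    refine ⟨fun a => c a.1 a.2, fun x => ?_⟩
    conv_lhs => rw [← show pM (iM x) = x from DFunLike.congr_fun hiM x, pi_eq_sum_univ' (iM x)]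
    simp only [map_sum, map_smul, Fintype.sum_prod_type]
    refine Finset.sum_congr rfl fun j _ => ?_
    rw [← hc j, Finset.smul_sum]
    refine Finset.sum_congr rfl fun l _ => ?_
    simp only [F, LinearMap.smulRight_apply, LinearMap.comp_apply, LinearMap.proj_apply]
    exact smul_comm _ _ _
  have hG : ∀ g : N →ₗ[A] M, ∃ c : Fin s' × Fin cM → R, ∀ x, g x = ∑ b, c b • G b x := by
    intro g
    have h : ∀ j, g (pN (Pi.single j 1)) ∈ Submodule.span R (Set.range wM) := fun j => by rw [hwM]; trivial
    choose c hc using fun j => (Submodule.mem_span_range_iff_exists_fun R).1 (h j)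
    refine ⟨fun a => c a.1 a.2, fun x => ?_⟩
    conv_lhs => rw [← show pN (iN x) = x from DFunLike.congr_fun hiN x, pi_eq_sum_univ' (iN x)]
    simp only [map_sum, map_smul, Fintype.sum_prod_type]
    refine Finset.sum_congr rfl fun j _ => ?_
    rw [← hc j, Finset.smul_sum]
    refine Finset.sum_congr rfl fun l _ => ?_
    simp only [G, LinearMap.smulRight_apply, LinearMap.comp_apply, LinearMap.proj_apply]
    exact smul_comm _ _ _
  let σ := (Fin s × Fin cN) ⊕ (Fin s' × Fin cM)
  let fS : (σ → R) → (M →ₗ[A] N) := fun t => ∑ a, t (Sum.inl a) • F a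
  let gS : (σ → R) → (N →ₗ[A] M) := fun t => ∑ b, t (Sum.inr b) • G b
  let E : (σ → R) → Matrix (Fin n) (Fin n) R := fun t =>
    LinearMap.toMatrix' (LinearMap.id - iR ∘ₗ pR + iR ∘ₗ ((fS t ∘ₗ gS t).restrictScalars R) ∘ₗ pR)
  let Q : (Fin s × Fin cN) → (Fin s' × Fin cM) → Matrix (Fin n) (Fin n) R := fun a b =>
    LinearMap.toMatrix' (iR ∘ₗ ((F a ∘ₗ G b).restrictScalars R) ∘ₗ pR)
  let P : MvPolynomial σ R :=
    ((1 - LinearMap.toMatrix' (iR ∘ₗ pR)).map (MvPolynomial.C : R →+* MvPolynomial σ R) +
      ∑ a, ∑ b, (MvPolynomial.X (Sum.inl a) * MvPolynomial.X (Sum.inr b) : MvPolynomial σ R) •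
        (Q a b).map (MvPolynomial.C : R →+* MvPolynomial σ R)).det
  have hP : ∀ t, MvPolynomial.eval t P = (E t).det := by
    intro t
    rw [RingHom.map_det]
    congr 1
    have hE : E t = (1 - LinearMap.toMatrix' (iR ∘ₗ pR)) + ∑ a, ∑ b, (t (Sum.inl a) * t (Sum.inr b)) • Q a b := by
      simp only [E, Q, ← map_smul, ← map_sum, ← LinearMap.toMatrix'_id, ← map_sub, ← map_add]
      refine congrArg LinearMap.toMatrix' (LinearMap.ext fun x => ?_)
      simp [fS, gS, LinearMap.sum_apply, Finset.smul_sum, mul_smul]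
    rw [hE, map_add, map_sum]
    refine congrArg₂ (· + ·) ?_ (Finset.sum_congr rfl fun a _ => ?_)
    · ext i j; simp
    · rw [map_sum]
      refine Finset.sum_congr rfl fun b _ => ?_
      ext i j; simp
  have hE' : ∀ t x, Matrix.toLin' (E t) x = x - iR (pR x) + iR (fS t (gS t (pR x))) := fun t x => by
    simp [E]
  obtain ⟨t, ht⟩ := LGRingLib.representsUnit_rename hR P (fun m hm => by
    obtain ⟨f, g, hfg⟩ := exists_lift_mod (A := A) (M := M) (N := N) m (hrk _)
    obtain ⟨c, hc⟩ := hF f
    obtain ⟨c', hc'⟩ := hG g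
    refine ⟨Sum.elim c c', ?_⟩
    rw [hP]
    have hfS : ∀ x, fS (Sum.elim c c') x = f x := fun x => by simp [fS, hc]
    have hgS : ∀ x, gS (Sum.elim c c') x = g x := fun x => by simp [gS, hc']
    have hE1 : (E (Sum.elim c c')).map (Ideal.Quotient.mk m) = 1 := by
      ext i j
      have e1 := hE' (Sum.elim c c') (Pi.single j 1)
      rw [Matrix.toLin'_apply, Matrix.mulVec_single_one, hfS, hgS] at e1
      have e3 := LGRingLib.functional_congr m ((LinearMap.proj i).comp iR) (hfg (pR (Pi.single j 1)))
      simp only [LinearMap.comp_apply, LinearMap.proj_apply] at e3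
      rw [Matrix.map_apply, show E (Sum.elim c c') i j = _ from congrFun e1 i, Pi.add_apply, Pi.sub_apply, map_add,
        map_sub, e3, sub_add_cancel]
      rcases eq_or_ne i j with rfl | hij
      · simp
      · simp [hij, Matrix.one_apply_ne hij]
    intro hmem
    have h4 := Ideal.Quotient.eq_zero_iff_mem.2 hmem
    rw [RingHom.map_det, RingHom.mapMatrix_apply, hE1, Matrix.det_one] at h4
    exact one_ne_zero h4)
  have hu : IsUnit (E t) := (Matrix.isUnit_iff_isUnit_det _).2 (hP t ▸ ht)
  have hz : ∀ y, pR (iR y) = y := fun y => DFunLike.congr_fun hR' y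
  let h := fS t ∘ₗ gS t
  have hh : Function.Bijective h := by
    constructor
    · intro x y hxy
      apply Function.LeftInverse.injective (g := pR) hz
      apply Matrix.mulVec_injective_of_isUnit hu
      rw [← Matrix.toLin'_apply, ← Matrix.toLin'_apply, hE', hE', hz, hz]
      simp only [sub_self, zero_add]
      exact congrArg iR hxy
    · intro x
      obtain ⟨y, hy⟩ := (Matrix.mulVec_surjective_iff_isUnit.2 hu) (iR x)
      rw [← Matrix.toLin'_apply, hE'] at hy
      refine ⟨pR y, ?_⟩
      have h5 := congrArg pR hy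
      simp only [map_add, map_sub, hz, sub_self, zero_add] at h5
      exact h5
  refine ⟨fS t, gS t ∘ₗ (LinearEquiv.ofBijective h hh).symm.toLinearMap, LinearMap.ext fun y => ?_⟩
  exact (LinearEquiv.ofBijective h hh).apply_symm_apply y

/-- Over an LG ring, modules over an Azumaya algebra with the same rank are isomorphic. -/
theorem nonempty_linearEquiv [IsAzumaya R A] (hR : LGRing.IsLGRing R)
    (hrk : ∀ p : PrimeSpectrum R, Module.rankAtStalk N p = Module.rankAtStalk M p) : Nonempty (M ≃ₗ[A] N) := by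
  haveI := Module.Finite.trans (R := R) A M
  haveI := Module.Finite.trans (R := R) A N
  haveI := projective_restrict (R := R) (A := A) M
  haveI := projective_restrict (R := R) (A := A) N
  obtain ⟨f, g, hfg⟩ := exists_split_surjection (A := A) (M := M) (N := N) hR fun p => (hrk p).le
  have hs : Function.Surjective f := fun y => ⟨g y, DFunLike.congr_fun hfg y⟩
  obtain ⟨e⟩ := LGRingLib.nonempty_linearEquiv_of_rank_eq (M₁ := N) (M₂ := M) hR hrk
  have hi := OrzechProperty.injective_of_surjective_endomorphism (e.toLinearMap ∘ₗ f.restrictScalars R)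
    (e.surjective.comp hs)
  exact ⟨LinearEquiv.ofBijective f ⟨fun x y h => hi (congrArg e h), hs⟩⟩

end Split

section Cancel

theorem mulRight_split {C : Type z} [Ring C] {e : C} (he : IsIdempotentElem e) :
    ((LinearMap.toSpanSingleton C C e).rangeRestrict).comp (LinearMap.range (LinearMap.toSpanSingleton C C e)).subtype =
      LinearMap.id := by
  refine LinearMap.ext ?_
  rintro ⟨_, a, rfl⟩
  refine Subtype.ext ?_
  show (a * e) * e = a * e
  rw [mul_assoc, he.eq]

/-- Idempotents whose left ideals have the same rank are equivalent. -/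
theorem exists_conj_pair [IsAzumaya R A] (hR : LGRing.IsLGRing R) {e f : A} (he : IsIdempotentElem e)
    (hf : IsIdempotentElem f)
    (hrk : ∀ p : PrimeSpectrum R,
      Module.rankAtStalk (LinearMap.range (LinearMap.mulRight R f)) p =
        Module.rankAtStalk (LinearMap.range (LinearMap.mulRight R e)) p) :
    ∃ x y : A, x * y = e ∧ y * x = f ∧ e * x = x ∧ x * f = x ∧ f * y = y ∧ y * e = y := by
  let Le := LinearMap.range (LinearMap.toSpanSingleton A A e)
  let Lf := LinearMap.range (LinearMap.toSpanSingleton A A f)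
  haveI : Module.Projective A Le := Module.Projective.of_split Le.subtype _ (mulRight_split he)
  haveI : Module.Projective A Lf := Module.Projective.of_split Lf.subtype _ (mulRight_split hf)
  haveI : Module.Finite A Le := Module.Finite.range _
  haveI : Module.Finite A Lf := Module.Finite.range _
  let ce : Le ≃ₗ[R] LinearMap.range (LinearMap.mulRight R e) :=
    { toFun := fun x => ⟨x, by obtain ⟨_, a, rfl⟩ := x; exact ⟨a, rfl⟩⟩
      invFun := fun x => ⟨x, by obtain ⟨_, a, rfl⟩ := x; exact ⟨a, rfl⟩⟩
      map_add' := fun _ _ => rfl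
      map_smul' := fun _ _ => rfl
      left_inv := fun _ => rfl
      right_inv := fun _ => rfl }
  let cf : Lf ≃ₗ[R] LinearMap.range (LinearMap.mulRight R f) :=
    { toFun := fun x => ⟨x, by obtain ⟨_, a, rfl⟩ := x; exact ⟨a, rfl⟩⟩
      invFun := fun x => ⟨x, by obtain ⟨_, a, rfl⟩ := x; exact ⟨a, rfl⟩⟩
      map_add' := fun _ _ => rfl
      map_smul' := fun _ _ => rfl
      left_inv := fun _ => rfl
      right_inv := fun _ => rfl }
  obtain ⟨φ⟩ := nonempty_linearEquiv (R := R) (A := A) (M := Le) (N := Lf) hR fun p => by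
    rw [congrFun (Module.rankAtStalk_eq_of_equiv ce) p, congrFun (Module.rankAtStalk_eq_of_equiv cf) p, hrk]
  have hmem : ∀ {g : A}, IsIdempotentElem g → ∀ z : LinearMap.range (LinearMap.toSpanSingleton A A g), (z : A) * g = z := by
    rintro g hg ⟨_, a, rfl⟩
    show a * g * g = a * g
    rw [mul_assoc, hg.eq]
  let e' : Le := ⟨e, 1, one_mul e⟩
  let f' : Lf := ⟨f, 1, one_mul f⟩
  have hφ : ∀ z : Le, (φ z : A) = (z : A) * (φ e' : A) := fun z => by
    have h : z = (z : A) • e' := Subtype.ext (hmem he z).symm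
    conv_lhs => rw [h, map_smul]
    rfl
  have hψ : ∀ z : Lf, (φ.symm z : A) = (z : A) * (φ.symm f' : A) := fun z => by
    have h : z = (z : A) • f' := Subtype.ext (hmem hf z).symm
    conv_lhs => rw [h, map_smul]
    rfl
  refine ⟨φ e', φ.symm f', ?_, ?_, (hφ e').symm, hmem hf _, (hψ f').symm, hmem he _⟩
  · rw [← hψ, φ.symm_apply_apply]
  · rw [← hφ, φ.apply_symm_apply]

variable {B : Type z} [Ring B] [Algebra R B]

variable (A) in
/-- evaluation of the second factor of `A ⊗ End P` -/
def corner {P : Type w} [AddCommGroup P] [Module R P] (x : P) (f : Module.Dual R P) :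
    A ⊗[R] Module.End R P →ₗ[R] A :=
  (TensorProduct.rid R A).toLinearMap ∘ₗ TensorProduct.map LinearMap.id (f ∘ₗ LinearMap.applyₗ x)

theorem corner_tmul {P : Type w} [AddCommGroup P] [Module R P] (x : P) (f : Module.Dual R P) (a : A)
    (T : Module.End R P) : corner A x f (a ⊗ₜ[R] T) = f (T x) • a := by
  simp [corner]

theorem corner_spec {P : Type w} [AddCommGroup P] [Module R P] (x : P) (f : Module.Dual R P)
    (z : A ⊗[R] Module.End R P) :
    ((1 : A) ⊗ₜ[R] f.smulRight x) * z * ((1 : A) ⊗ₜ[R] f.smulRight x) = corner A x f z ⊗ₜ[R] f.smulRight x := by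
  induction z with
  | zero => simp
  | add a b ha hb => simp only [mul_add, add_mul, ha, hb, map_add, TensorProduct.add_tmul]
  | tmul a T =>
    rw [Algebra.TensorProduct.tmul_mul_tmul, Algebra.TensorProduct.tmul_mul_tmul, one_mul, mul_one, corner_tmul,
      TensorProduct.smul_tmul]
    congr 1
    ext y
    simp [smul_smul, mul_comm]

theorem rank_corner {P : Type w} [AddCommGroup P] [Module R P] [Module.Finite R P] [Module.Projective R P]
    [IsAzumaya R A] {x : P} {f : Module.Dual R P} (hx : f x = 1) (p : PrimeSpectrum R) :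
    Module.rankAtStalk (LinearMap.range (LinearMap.mulRight R ((1 : A) ⊗ₜ[R] f.smulRight x : A ⊗[R] Module.End R P))) p =
      Module.rankAtStalk A p * Module.rankAtStalk (R := R) P p := by
  let e : A ⊗[R] Module.End R P := (1 : A) ⊗ₜ[R] f.smulRight x
  let i : A ⊗[R] P →ₗ[R] A ⊗[R] Module.End R P := TensorProduct.map LinearMap.id (LinearMap.smulRightₗ f)
  let r : A ⊗[R] Module.End R P →ₗ[R] A ⊗[R] P := TensorProduct.map LinearMap.id (LinearMap.applyₗ x)
  have hri : ∀ z, r (i z) = z := by
    intro z
    induction z with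
    | zero => simp
    | add a b ha hb => simp only [map_add, ha, hb]
    | tmul a v => simp [i, r, hx]
  have hir : ∀ z, i (r z) = z * e := by
    intro z
    induction z with
    | zero => simp
    | add a b ha hb => simp only [map_add, ha, hb, add_mul]
    | tmul a T =>
      simp only [i, r, e, TensorProduct.map_tmul, LinearMap.id_apply, Algebra.TensorProduct.tmul_mul_tmul, mul_one]
      congr 1
      ext y
      simp
  have hi : ∀ z, i z ∈ LinearMap.range (LinearMap.mulRight R e) := fun z => ⟨i z, by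
    show i z * e = i z
    rw [← hir, hri]⟩
  let c : A ⊗[R] P ≃ₗ[R] LinearMap.range (LinearMap.mulRight R e) :=
    LinearEquiv.ofBijective (i.codRestrict _ hi) ⟨fun a b h => Function.LeftInverse.injective hri (congrArg Subtype.val h),
      fun ⟨_, w, hw⟩ => ⟨r w, Subtype.ext ((hir w).trans hw)⟩⟩
  haveI : Module.Flat R A := Module.Flat.of_projective
  haveI : Module.Flat R P := Module.Flat.of_projective
  rw [← congrFun (Module.rankAtStalk_eq_of_equiv c) p, Module.rankAtStalk_tensorProduct]
  rfl

/-- Cancellation of endomorphism algebras from Azumaya algebras of the same rank. -/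
theorem cancel [IsAzumaya R A] [IsAzumaya R B] (hR : LGRing.IsLGRing R)
    (P : Type w) [AddCommGroup P] [Module R P] [Module.Finite R P] [Module.Projective R P] [FaithfulSMul R P]
    (Q : Type w') [AddCommGroup Q] [Module R Q] [Module.Finite R Q] [Module.Projective R Q] [FaithfulSMul R Q]
    (hdeg : ∀ p : PrimeSpectrum R, Module.rankAtStalk A p = Module.rankAtStalk B p)
    (φ : A ⊗[R] Module.End R P ≃ₐ[R] B ⊗[R] Module.End R Q) : Nonempty (A ≃ₐ[R] B) := by
  haveI := Azumaya.isAzumaya_end (R := R) P
  haveI := Azumaya.isAzumaya_end (R := R) Q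
  haveI := Azumaya.isAzumaya_tensor (R := R) A (Module.End R P)
  haveI := Azumaya.isAzumaya_tensor (R := R) B (Module.End R Q)
  obtain ⟨xP, fP, hP⟩ := LGRingLib.exists_unimodular hR P
  obtain ⟨xQ, fQ, hQ⟩ := LGRingLib.exists_unimodular hR Q
  have hεP : fP.smulRight xP * fP.smulRight xP = fP.smulRight xP := LinearMap.ext fun y => by simp [hP]
  have hεQ : fQ.smulRight xQ * fQ.smulRight xQ = fQ.smulRight xQ := LinearMap.ext fun y => by simp [hQ]
  let eP : A ⊗[R] Module.End R P := (1 : A) ⊗ₜ[R] fP.smulRight xP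
  let e2 : B ⊗[R] Module.End R Q := (1 : B) ⊗ₜ[R] fQ.smulRight xQ
  have heP : IsIdempotentElem eP := by
    show eP * eP = eP
    rw [Algebra.TensorProduct.tmul_mul_tmul, one_mul, hεP]
  have he2 : IsIdempotentElem e2 := by
    show e2 * e2 = e2
    rw [Algebra.TensorProduct.tmul_mul_tmul, one_mul, hεQ]
  have hrankE : ∀ p, Module.rankAtStalk (R := R) P p = Module.rankAtStalk (R := R) Q p := by
    intro p
    have h := congrFun (Module.rankAtStalk_eq_of_equiv φ.toLinearEquiv) p
    haveI : Module.Flat R A := Module.Flat.of_projective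
    haveI : Module.Flat R B := Module.Flat.of_projective
    haveI : Module.Flat R P := Module.Flat.of_projective
    haveI : Module.Flat R Q := Module.Flat.of_projective
    haveI : Module.Flat R (Module.End R P) := Module.Flat.of_projective
    haveI : Module.Flat R (Module.End R Q) := Module.Flat.of_projective
    rw [Module.rankAtStalk_tensorProduct, Module.rankAtStalk_tensorProduct] at h
    simp only [Pi.mul_apply, hdeg p] at h
    rw [rankAtStalk_end P, rankAtStalk_end Q] at h
    have hB : Module.rankAtStalk (R := R) B p ≠ 0 := ((Module.rankAtStalk_pos_iff_mem_support p).2 (by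
      rw [Module.support_eq_zeroLocus, Module.annihilator_eq_bot.2 inferInstance]; simp)).ne'
    exact Nat.mul_self_inj.1 (Nat.eq_of_mul_eq_mul_left (Nat.pos_of_ne_zero hB) h)
  let e1 : B ⊗[R] Module.End R Q := φ eP
  have he1 : IsIdempotentElem e1 := heP.map φ
  obtain ⟨x, y, hxy, hyx, hex, hxf, hfy, hye⟩ := exists_conj_pair (R := R) hR he1 he2 fun p => by
    let c : LinearMap.range (LinearMap.mulRight R eP) ≃ₗ[R] LinearMap.range (LinearMap.mulRight R e1) :=
      { toFun := fun z => ⟨φ z, by obtain ⟨_, a, rfl⟩ := z; exact ⟨φ a, (map_mul φ a eP).symm⟩⟩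
        invFun := fun z => ⟨φ.symm z, by
          obtain ⟨_, a, rfl⟩ := z
          exact ⟨φ.symm a, by
            show φ.symm a * eP = φ.symm (a * e1)
            rw [map_mul, φ.symm_apply_apply]⟩⟩
        map_add' := fun a b => Subtype.ext (map_add φ _ _)
        map_smul' := fun r a => Subtype.ext (map_smul φ r _)
        left_inv := fun z => Subtype.ext (φ.symm_apply_apply _)
        right_inv := fun z => Subtype.ext (φ.apply_symm_apply _) }
    have h := congrFun (Module.rankAtStalk_eq_of_equiv (M := LinearMap.range (LinearMap.mulRight R eP))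
      (N := LinearMap.range (LinearMap.mulRight R e1)) c) p
    rw [rank_corner hQ, ← h, rank_corner hP, hdeg, hrankE]
  let Φ := corner B xQ fQ
  let Ψ := corner A xP fP
  let inA : A → B ⊗[R] Module.End R Q := fun a => φ (a ⊗ₜ[R] fP.smulRight xP)
  let inB : B → B ⊗[R] Module.End R Q := fun b => b ⊗ₜ[R] fQ.smulRight xQ
  have hinA : ∀ a a', inA a * inA a' = inA (a * a') := fun a a' => by
    simp only [inA, ← map_mul, Algebra.TensorProduct.tmul_mul_tmul, hεP]
  have hA1 : ∀ a, e1 * inA a * e1 = inA a := fun a => by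
    simp only [inA, e1, eP, ← map_mul, Algebra.TensorProduct.tmul_mul_tmul, hεP, one_mul, mul_one]
  have hB1 : ∀ b, e2 * inB b * e2 = inB b := fun b => by
    simp only [inB, e2, Algebra.TensorProduct.tmul_mul_tmul, hεQ, one_mul, mul_one]
  have hΦ : ∀ b, Φ (inB b) = b := fun b => by simp [Φ, inB, corner_tmul, hQ]
  have hΨ : ∀ a, Ψ (a ⊗ₜ[R] fP.smulRight xP) = a := fun a => by simp [Ψ, corner_tmul, hP]
  have hin : ∀ z, inB (Φ z) = e2 * z * e2 := fun z => (corner_spec xQ fQ z).symm
  let F : A →ₗ[R] B := Φ ∘ₗ LinearMap.mulLeftRight R (y, x) ∘ₗ φ.toLinearMap ∘ₗ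
    (TensorProduct.mk R A (Module.End R P)).flip (fP.smulRight xP)
  have hF : ∀ a, F a = Φ (y * inA a * x) := fun a => rfl
  have hcor : ∀ z, e2 * (y * z * x) * e2 = y * z * x := fun z => by
    rw [← mul_assoc, ← mul_assoc, hfy, mul_assoc (y * z) x e2, hxf]
  have hFm : ∀ a a', F (a * a') = F a * F a' := fun a a' => by
    have h1 : inB (F a) * inB (F a') = inB (F a * F a') := by
      simp only [inB, Algebra.TensorProduct.tmul_mul_tmul, hεQ]
    rw [← hΦ (F a * F a'), ← h1, hF, hF, hF, hin, hin, hcor, hcor, ← hinA]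
    congr 1
    calc y * (inA a * inA a') * x = y * (inA a * e1 * inA a') * x := by
          have h2 : inA a * e1 = inA a := by rw [← hA1 a, mul_assoc, he1.eq]
          rw [h2]
      _ = y * inA a * x * (y * inA a' * x) := by rw [← hxy]; simp only [mul_assoc]
  have hF1 : F 1 = 1 := by
    rw [hF, show inA 1 = e1 from rfl, hye, hyx, ← hΦ 1]
  refine ⟨AlgEquiv.ofBijective (AlgHom.ofLinearMap F hF1 hFm) ⟨?_, ?_⟩⟩
  · refine Function.LeftInverse.injective (g := fun b => Ψ (φ.symm (x * inB b * y))) fun a => ?_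
    show Ψ (φ.symm (x * inB (F a) * y)) = a
    rw [hF, hin, hcor, show x * (y * inA a * x) * y = inA a by
      rw [← mul_assoc, ← mul_assoc, hxy, mul_assoc (e1 * inA a) x y, hxy, hA1]]
    simp only [inA, φ.symm_apply_apply, hΨ]
  · intro b
    refine ⟨Ψ (φ.symm (x * inB b * y)), ?_⟩
    show F _ = b
    rw [hF]
    have h1 : inA (Ψ (φ.symm (x * inB b * y))) = x * inB b * y := by
      show φ (Ψ _ ⊗ₜ[R] _) = _
      rw [← corner_spec, map_mul, map_mul, φ.apply_symm_apply]
      show e1 * (x * inB b * y) * e1 = _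
      rw [← mul_assoc, ← mul_assoc, hex, mul_assoc (x * inB b) y e1, hye]
    rw [h1, show y * (x * inB b * y) * x = inB b by
      rw [← mul_assoc, ← mul_assoc, hyx, mul_assoc (e2 * inB b) y x, hyx, hB1], hΦ]

end Cancel

end Groth.Agent.LGAz
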