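/-
Corner algebras of Azumaya algebras.
-/
import Groth.Agent.Azumaya.Basic
import Mathlib.RingTheory.Idempotents
import Mathlib.RingTheory.Spectrum.Prime.FreeLocus
import Mathlib.RingTheory.LocalRing.Module

set_option autoImplicit false
set_option linter.style.haveILetI false
set_option backward.isDefEq.respectTransparency false

universe u v w w' z

open TensorProduct MulOpposite

noncomputable section

namespace Groth.Agent.AzCorner

variable {R : Type u} [CommRing R] {A : Type v} [Ring A] [Algebra R A]

/-- A linear map out of `S ⊗ Tᵒᵖ` obtained from the bijection `A ⊗ Aᵒᵖ ≅ End A` by compression is bijective. -/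
theorem bijective_compress [IsAzumaya R A] {S T : Type w} [AddCommGroup S] [Module R S] [AddCommGroup T] [Module R T]
    {V : Type z} [AddCommGroup V] [Module R V] (Φ : S ⊗[R] Tᵐᵒᵖ →ₗ[R] Module.End R V)
    (iS : S →ₗ[R] A) (ρS : A →ₗ[R] S) (iT : T →ₗ[R] A) (ρT : A →ₗ[R] T) (i : V →ₗ[R] A) (p : A →ₗ[R] V)
    (hS : ∀ s, ρS (iS s) = s) (hT : ∀ t, ρT (iT t) = t) (hp : ∀ v, p (i v) = v)
    (hρ : ∀ a b v, Φ (ρS a ⊗ₜ[R] op (ρT b)) v = p (a * i v * b))
    (hi : ∀ s t x, iS s * x * iT t = i (Φ (s ⊗ₜ[R] op t) (p x))) : Function.Bijective Φ := by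
  let τ : S ⊗[R] Tᵐᵒᵖ →ₗ[R] A ⊗[R] Aᵐᵒᵖ := TensorProduct.map iS
    ((opLinearEquiv R).toLinearMap ∘ₗ iT ∘ₗ (opLinearEquiv R).symm.toLinearMap)
  let σ : A ⊗[R] Aᵐᵒᵖ →ₗ[R] S ⊗[R] Tᵐᵒᵖ := TensorProduct.map ρS
    ((opLinearEquiv R).toLinearMap ∘ₗ ρT ∘ₗ (opLinearEquiv R).symm.toLinearMap)
  have hστ : ∀ s, σ (τ s) = s := by
    intro s
    induction s using TensorProduct.induction_on with
    | zero => simp
    | add a b ha hb => simp only [map_add, ha, hb]
    | tmul a b => simp [σ, τ, hS, hT]
  have h1 : ∀ s x, AlgHom.mulLeftRight R A (τ s) x = i (Φ s (p x)) := by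
    intro s x
    induction s using TensorProduct.induction_on with
    | zero => simp
    | add a b ha hb => simp only [map_add, LinearMap.add_apply, ha, hb]
    | tmul a b =>
      obtain ⟨b, rfl⟩ := MulOpposite.op_surjective b
      simp only [τ, TensorProduct.map_tmul, LinearMap.comp_apply, LinearEquiv.coe_coe, coe_opLinearEquiv_symm,
        coe_opLinearEquiv, AlgHom.mulLeftRight_apply, unop_op, hi]
  have h2 : ∀ t v, Φ (σ t) v = p (AlgHom.mulLeftRight R A t (i v)) := by
    intro t v
    induction t using TensorProduct.induction_on with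
    | zero => simp
    | add a b ha hb => simp only [map_add, LinearMap.add_apply, ha, hb]
    | tmul a b =>
      obtain ⟨b, rfl⟩ := MulOpposite.op_surjective b
      simp only [σ, TensorProduct.map_tmul, LinearMap.comp_apply, LinearEquiv.coe_coe, coe_opLinearEquiv_symm,
        coe_opLinearEquiv, AlgHom.mulLeftRight_apply, unop_op, hρ]
  refine ⟨fun s s' h => ?_, fun G => ?_⟩
  · have h3 : τ s = τ s' := IsAzumaya.bij.1 (LinearMap.ext fun x => by rw [h1, h1, h])
    rw [← hστ s, h3, hστ]
  · obtain ⟨t, ht⟩ := (IsAzumaya.bij (R := R) (A := A)).2 (i ∘ₗ G ∘ₗ p)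
    exact ⟨σ t, LinearMap.ext fun v => by rw [h2, ht, LinearMap.comp_apply, LinearMap.comp_apply, hp, hp]⟩

theorem faithfulSMul_of_rankAtStalk_pos (M : Type v) [AddCommGroup M] [Module R M] [Module.Finite R M]
    [Module.Projective R M] (h : ∀ p, 0 < Module.rankAtStalk (R := R) M p) : FaithfulSMul R M := by
  refine ⟨fun {r r'} hr => sub_eq_zero.1 ?_⟩
  refine Classical.byContradiction fun hne => ?_
  obtain ⟨m, hm, hle⟩ := Ideal.exists_le_maximal (Ideal.torsionOf R R (r - r')) (by
    rw [Ne, Ideal.eq_top_iff_one, Ideal.mem_torsionOf_iff, one_smul]; exact hne)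
  haveI : Module.Flat R M := Module.Flat.of_projective
  haveI : Module.Free (Localization.AtPrime m) (LocalizedModule m.primeCompl M) := Module.free_of_flat_of_isLocalRing
  haveI : Nontrivial (LocalizedModule m.primeCompl M) :=
    Module.nontrivial_of_finrank_pos (R := Localization.AtPrime m) (h ⟨m, hm.isPrime⟩)
  have hz : algebraMap R (Localization.AtPrime m) (r - r') = 0 := by
    refine eq_of_smul_eq_smul (α := LocalizedModule m.primeCompl M) fun x => ?_
    induction x using LocalizedModule.induction_on with
    | h a s => rw [algebraMap_smul, LocalizedModule.smul'_mk, sub_smul, hr a, sub_self, LocalizedModule.zero_mk, zero_smul]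
  obtain ⟨c, hc⟩ := (IsLocalization.map_eq_zero_iff m.primeCompl _ _).1 hz
  exact c.2 (hle ((Ideal.mem_torsionOf_iff _ _).2 hc))

section Idem

variable {e : A} (he : IsIdempotentElem e)

theorem corner_mul (x : he.Corner) : e * x.1 = x.1 ∧ x.1 * e = x.1 := (Subsemigroup.mem_corner_iff he).1 x.2

variable (R) in
/-- the structure map of the corner algebra -/
def cornerMap : R →+* he.Corner where
  toFun r := ⟨r • e, (Subsemigroup.mem_corner_iff he).2 ⟨by rw [mul_smul_comm, he.eq], by rw [smul_mul_assoc, he.eq]⟩⟩
  map_one' := Subtype.ext (one_smul R e)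
  map_mul' r s := Subtype.ext (show (r * s) • e = r • e * s • e by rw [smul_mul_smul_comm, he.eq])
  map_zero' := Subtype.ext (zero_smul R e)
  map_add' r s := Subtype.ext (add_smul r s e)

instance instAlgebraCorner : Algebra R he.Corner :=
  RingHom.toAlgebra' (cornerMap R he) fun r x => Subtype.ext (show r • e * x.1 = x.1 * r • e by
    rw [smul_mul_assoc, mul_smul_comm, (corner_mul he x).1, (corner_mul he x).2])

theorem coe_smul (r : R) (x : he.Corner) : (r • x).1 = r • x.1 := by
  show r • e * x.1 = _
  rw [smul_mul_assoc, (corner_mul he x).1]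

variable (R) in
/-- the inclusion of the corner -/
def incl : he.Corner →ₗ[R] A where
  toFun x := x.1
  map_add' _ _ := rfl
  map_smul' r x := coe_smul he r x

variable (R) in
/-- the compression onto the corner -/
def compress : A →ₗ[R] he.Corner where
  toFun a := ⟨e * a * e, ⟨a, rfl⟩⟩
  map_add' a b := Subtype.ext (show e * (a + b) * e = e * a * e + e * b * e by rw [mul_add, add_mul])
  map_smul' r a := Subtype.ext (by
    rw [RingHom.id_apply, coe_smul]
    show e * r • a * e = r • (e * a * e)
    rw [mul_smul_comm, smul_mul_assoc])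

theorem compress_incl (x : he.Corner) : compress R he (incl R he x) = x :=
  Subtype.ext (show e * x.1 * e = x.1 by rw [(corner_mul he x).1, (corner_mul he x).2])

/-- the left ideal generated by the idempotent -/
abbrev Left (A : Type v) [Ring A] (e : A) : Submodule A A := LinearMap.range (LinearMap.toSpanSingleton A A e)

include he in
theorem left_mul (x : Left A e) : (x : A) * e = x := by
  obtain ⟨_, a, rfl⟩ := x
  show a * e * e = a * e
  rw [mul_assoc, he.eq]

variable (R) in
/-- the projection to the left ideal -/
def toLeft (e : A) : A →ₗ[R] Left A e := (LinearMap.toSpanSingleton A A e).rangeRestrict.restrictScalars R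

include he in
theorem toLeft_incl (x : Left A e) : toLeft R e (x : A) = x := Subtype.ext (left_mul he x)

theorem finite_left [Module.Finite R A] (e : A) : Module.Finite R (Left A e) :=
  Module.Finite.of_surjective (toLeft R e) (LinearMap.surjective_rangeRestrict _)

include he in
theorem projective_left [Module.Projective R A] : Module.Projective R (Left A e) :=
  Module.Projective.of_split ((Left A e).subtype.restrictScalars R) (toLeft R e) (LinearMap.ext (toLeft_incl (R := R) he))

variable (R) in
/-- the right action of the corner -/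
def rightAct : he.Cornerᵐᵒᵖ →ₐ[R] Module.End R (Left A e) :=
  AlgHom.ofLinearMap
    { toFun := fun b =>
        { toFun := fun x => ⟨(x : A) * b.unop.1, (x : A) * b.unop.1, by
            show (x : A) * b.unop.1 * e = (x : A) * b.unop.1
            rw [mul_assoc, (corner_mul he b.unop).2]⟩
          map_add' := fun x y => Subtype.ext (add_mul (x : A) (y : A) _)
          map_smul' := fun r x => Subtype.ext (smul_mul_assoc r (x : A) _) }
      map_add' := fun a b => LinearMap.ext fun x => Subtype.ext (mul_add (x : A) a.unop.1 b.unop.1)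
      map_smul' := fun r b => LinearMap.ext fun x => Subtype.ext (by
        show (x : A) * (r • b.unop).1 = r • ((x : A) * b.unop.1)
        rw [coe_smul, mul_smul_comm]) }
    (LinearMap.ext fun x => Subtype.ext (left_mul he x))
    (fun a b => LinearMap.ext fun x => Subtype.ext (mul_assoc (x : A) b.unop.1 a.unop.1).symm)

variable (R) in
/-- the action of `A ⊗ Cornerᵒᵖ` on the left ideal -/
def bimodAct : A ⊗[R] he.Cornerᵐᵒᵖ →ₐ[R] Module.End R (Left A e) :=
  Algebra.TensorProduct.lift (Algebra.lsmul R R (Left A e)) (rightAct R he) fun a b =>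
    LinearMap.ext fun x => Subtype.ext (show a * ((x : A) * b.unop.1) = a * (x : A) * b.unop.1 from (mul_assoc _ _ _).symm)

theorem bimodAct_tmul (a : A) (b : he.Corner) (x : Left A e) :
    (bimodAct R he (a ⊗ₜ[R] op b) x : A) = a * (x : A) * b.1 := by
  rw [bimodAct, Algebra.TensorProduct.lift_tmul]
  show a * ((x : A) * b.1) = _
  exact (mul_assoc a (x : A) b.1).symm

theorem bijective_bimodAct [IsAzumaya R A] : Function.Bijective (bimodAct R he) :=
  bijective_compress (bimodAct R he).toLinearMap LinearMap.id LinearMap.id (incl R he) (compress R he)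
    ((Left A e).subtype.restrictScalars R) (toLeft R e) (fun _ => rfl) (compress_incl he) (toLeft_incl he)
    (fun a b x => Subtype.ext (by
      show (bimodAct R he (a ⊗ₜ[R] op (compress R he b)) x : A) = a * (x : A) * b * e
      rw [bimodAct_tmul]
      show a * (x : A) * (e * b * e) = _
      rw [show a * (x : A) * (e * b * e) = a * ((x : A) * e) * b * e by simp only [mul_assoc], left_mul he]))
    (fun a b x => by
      show a * x * b.1 = (bimodAct R he (a ⊗ₜ[R] op b) (toLeft R e x) : A)
      rw [bimodAct_tmul]
      show _ = a * (x * e) * b.1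
      rw [show a * (x * e) * b.1 = a * x * (e * b.1) by simp only [mul_assoc], (corner_mul he b).1])

theorem isAzumaya_corner [IsAzumaya R A] (hf : FaithfulSMul R (Left A e)) : IsAzumaya R he.Corner := by
  haveI : Module.Projective R he.Corner :=
    Module.Projective.of_split (incl R he) (compress R he) (LinearMap.ext (compress_incl he))
  haveI : Module.Finite R he.Corner :=
    Module.Finite.of_surjective (compress R he) fun x => ⟨_, compress_incl he x⟩
  exact
    { toFaithfulSMul := ⟨fun {r r'} h => by
        refine hf.eq_of_smul_eq_smul fun x => Subtype.ext ?_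
        have h1 : r • e = r' • e := by
          have := congrArg Subtype.val (h 1)
          rw [coe_smul, coe_smul] at this
          exact this
        show r • (x : A) = r' • (x : A)
        rw [← left_mul he x, ← mul_smul_comm, ← mul_smul_comm, h1]⟩
      bij := bijective_compress (AlgHom.mulLeftRight R he.Corner).toLinearMap (incl R he) (compress R he) (incl R he)
        (compress R he) (incl R he) (compress R he) (compress_incl he) (compress_incl he) (compress_incl he)
        (fun a b x => by
          refine Subtype.ext ?_
          show (AlgHom.mulLeftRight R he.Corner (compress R he a ⊗ₜ[R] op (compress R he b)) x).1 = e * (a * x.1 * b) * e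
          rw [AlgHom.mulLeftRight_apply]
          show e * a * e * x.1 * (e * b * e) = _
          rw [show e * a * e * x.1 * (e * b * e) = e * a * (e * x.1 * e) * b * e by simp only [mul_assoc],
            (corner_mul he x).1, (corner_mul he x).2]
          simp only [mul_assoc])
        (fun a b x => by
          show a.1 * x * b.1 = (AlgHom.mulLeftRight R he.Corner (a ⊗ₜ[R] op b) (compress R he x)).1
          rw [AlgHom.mulLeftRight_apply]
          show _ = a.1 * (e * x * e) * b.1
          rw [show a.1 * (e * x * e) * b.1 = (a.1 * e) * x * (e * b.1) by simp only [mul_assoc],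
            (corner_mul he a).2, (corner_mul he b).1]) }

include he in
theorem left_split {f g : A} (hf : IsIdempotentElem f) (hg : IsIdempotentElem g) (hfg : f * g = 0) (hgf : g * f = 0)
    (hsum : f + g = e) [Module.Finite R A] [Module.Projective R A] (p : PrimeSpectrum R) :
    Module.rankAtStalk (R := R) (Left A e) p =
      Module.rankAtStalk (R := R) (Left A f) p + Module.rankAtStalk (R := R) (Left A g) p := by
  haveI := finite_left (R := R) f
  haveI := finite_left (R := R) g
  haveI := projective_left (R := R) hf
  haveI := projective_left (R := R) hg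
  let c : Left A e ≃ₗ[R] Left A f × Left A g :=
    { toFun := fun x => (toLeft R f (x : A), toLeft R g (x : A))
      invFun := fun y => ⟨(y.1 : A) + (y.2 : A), (y.1 : A) + (y.2 : A), by
        show ((y.1 : A) + (y.2 : A)) * e = (y.1 : A) + (y.2 : A)
        rw [← hsum, add_mul, mul_add, mul_add]
        conv_lhs => rw [← left_mul hf y.1, ← left_mul hg y.2]
        simp only [mul_assoc, hf.eq, hg.eq, hfg, hgf, mul_zero, add_zero, zero_add]
        rw [left_mul hf, left_mul hg]⟩
      map_add' := fun x y => Prod.ext (Subtype.ext (add_mul (x : A) (y : A) f)) (Subtype.ext (add_mul (x : A) (y : A) g))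
      map_smul' := fun r x => Prod.ext (Subtype.ext (smul_mul_assoc r (x : A) f)) (Subtype.ext (smul_mul_assoc r (x : A) g))
      left_inv := fun x => Subtype.ext (show (x : A) * f + (x : A) * g = x by
        obtain ⟨_, a, rfl⟩ := x
        show a * e * f + a * e * g = a * e
        rw [← mul_add, hsum, mul_assoc, he.eq])
      right_inv := fun y => Prod.ext
        (Subtype.ext (show ((y.1 : A) + (y.2 : A)) * f = (y.1 : A) by
          rw [add_mul, left_mul hf]
          conv_lhs => rw [← left_mul hg y.2, mul_assoc, hgf, mul_zero, add_zero]))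
        (Subtype.ext (show ((y.1 : A) + (y.2 : A)) * g = (y.2 : A) by
          rw [add_mul, left_mul hg]
          conv_lhs => rw [← left_mul hf y.1, mul_assoc, hfg, mul_zero, zero_add])) }
  rw [congrFun (Module.rankAtStalk_eq_of_equiv c) p, Module.rankAtStalk_prod, Pi.add_apply]

end Idem

end Groth.Agent.AzCorner
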