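import Groth.Agent.LGRing.Cancel
import Mathlib.AlgebraicGeometry.Scheme
import Mathlib.Algebra.MvPolynomial.Funext
import Mathlib.LinearAlgebra.SymmetricAlgebra.Basic

/-!
Points of quasi-compact open subschemes of affine spaces and vector bundles over LG-rings.
-/

set_option autoImplicit false
set_option linter.style.haveILetI false
set_option backward.isDefEq.respectTransparency false
set_option backward.isDefEq.respectTransparency.types false

universe u v

open AlgebraicGeometry

namespace Groth.Agent.LGRingPoints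

/-- A compact open of a spectrum is described by finitely many elements: a ring map's spectrum map
lands in it iff the images of these elements generate the unit ideal. -/
lemma exists_span_criterion {A : Type u} [CommRing A] (U : (Spec (CommRingCat.of A)).Opens)
    (hU : IsCompact (U : Set ↥(Spec (CommRingCat.of A)))) :
    ∃ t : Finset A,
      (∀ x : PrimeSpectrum A,
        x ∈ (U : Set ↥(Spec (CommRingCat.of A))) ↔ ∃ a ∈ t, a ∉ x.asIdeal) ∧
      ∀ {B : Type u} [CommRing B] (φ : A →+* B),
        Set.range (Spec.map (CommRingCat.ofHom φ)).base ⊆ (U : Set ↥(Spec (CommRingCat.of A))) ↔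
          Ideal.span (φ '' ↑t) = ⊤ := by
  obtain ⟨t, ht⟩ := (PrimeSpectrum.isCompact_isOpen_iff
    (s := (U : Set ↥(Spec (CommRingCat.of A))))).1 ⟨hU, U.isOpen⟩
  have hx : ∀ x : PrimeSpectrum A,
      x ∈ (U : Set ↥(Spec (CommRingCat.of A))) ↔ ∃ a ∈ t, a ∉ x.asIdeal := by
    intro x
    rw [show (U : Set ↥(Spec (CommRingCat.of A))) = (PrimeSpectrum.zeroLocus ↑t)ᶜ from ht.symm]
    simp [PrimeSpectrum.mem_zeroLocus, Set.not_subset]
  refine ⟨t, hx, fun {B} _ φ => ?_⟩
  constructor
  · intro h
    by_contra hne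
    obtain ⟨p, hp, hle⟩ := Ideal.exists_le_maximal _ hne
    have hmem := (hx (PrimeSpectrum.comap φ ⟨p, hp.isPrime⟩)).1 (h ⟨⟨p, hp.isPrime⟩, rfl⟩)
    obtain ⟨a, ha, hna⟩ := hmem
    exact hna (hle (Ideal.subset_span ⟨a, ha, rfl⟩))
  · rintro h _ ⟨p, rfl⟩
    refine (hx (PrimeSpectrum.comap φ p)).2 ?_
    by_contra hc
    push Not at hc
    refine p.isPrime.ne_top (top_le_iff.1 (h ▸ Ideal.span_le.2 ?_))
    rintro _ ⟨a, ha, rfl⟩
    exact hc a ha

variable {R : Type u} [CommRing R]

lemma quotient_eval {n : ℕ} (m : Ideal R) (x : Fin n → R) (P : MvPolynomial (Fin n) R) :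
    MvPolynomial.eval₂ (Ideal.Quotient.mk m) (fun i => Ideal.Quotient.mk m (x i)) P =
      Ideal.Quotient.mk m (MvPolynomial.eval x P) := by
  exact (MvPolynomial.eval₂_comp (Ideal.Quotient.mk m) x P).symm

/-- Core statement: finitely many polynomials which do not vanish simultaneously at some point modulo
every maximal ideal generate the unit ideal at some point over an LG-ring. -/
lemma exists_span_eval_eq_top (hR : LGRing.IsLGRing R) {n : ℕ} {ι : Type} [Fintype ι]
    (g : ι → MvPolynomial (Fin n) R)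
    (h : ∀ m : Ideal R, m.IsMaximal → ∃ x : Fin n → R, ∃ k, MvPolynomial.eval x (g k) ∉ m) :
    ∃ x : Fin n → R, Ideal.span (Set.range fun k => MvPolynomial.eval x (g k)) = ⊤ := by
  classical
  obtain ⟨s, hs⟩ := LGRingLib.representsUnit_rename hR
    (∑ k, MvPolynomial.X (Sum.inr k) * MvPolynomial.rename (Sum.inl : Fin n → Fin n ⊕ ι) (g k))
    (fun m hm => by
      obtain ⟨x, k, hk⟩ := h m hm
      refine ⟨Sum.elim x (fun j => if j = k then 1 else 0), ?_⟩
      simpa [MvPolynomial.eval_rename, Finset.sum_ite_eq', ite_mul] using hk)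
  refine ⟨s ∘ Sum.inl, Ideal.eq_top_of_isUnit_mem _ ?_ hs⟩
  rw [map_sum]
  refine Ideal.sum_mem _ fun k _ => ?_
  rw [map_mul, MvPolynomial.eval_rename]
  exact Ideal.mul_mem_left _ _ (Ideal.subset_span ⟨k, rfl⟩)

/-- Existence of a point over an LG-ring in a quasi-compact open of the spectrum of an algebra mapping
to a polynomial ring. -/
lemma exists_point (hR : LGRing.IsLGRing R) {A : Type u} [CommRing A] {n : ℕ}
    (j : A →+* MvPolynomial (Fin n) R) (U : (Spec (CommRingCat.of A)).Opens)
    (hU : IsCompact (U : Set ↥(Spec (CommRingCat.of A))))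
    (h : ∀ m : Ideal R, m.IsMaximal → ∃ x : Fin n → R,
      Set.range (Spec.map (CommRingCat.ofHom
        ((Ideal.Quotient.mk m).comp ((MvPolynomial.eval x).comp j)))).base ⊆
          (U : Set ↥(Spec (CommRingCat.of A)))) :
    ∃ x : Fin n → R, Set.range (Spec.map (CommRingCat.ofHom ((MvPolynomial.eval x).comp j))).base ⊆
      (U : Set ↥(Spec (CommRingCat.of A))) := by
  obtain ⟨t, hmem, ht⟩ := exists_span_criterion U hU
  let e := (Fintype.equivFin t).symm
  obtain ⟨x, hx⟩ := exists_span_eval_eq_top hR (fun k => j (e k).1) (fun m hm => by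
    obtain ⟨x, hx⟩ := h m hm
    refine ⟨x, ?_⟩
    by_contra hc
    push Not at hc
    have h0 : Ideal.span (((Ideal.Quotient.mk m).comp ((MvPolynomial.eval x).comp j)) '' ↑t) ≤ ⊥ := by
      refine Ideal.span_le.2 ?_
      rintro _ ⟨a, ha, rfl⟩
      obtain ⟨k, hk⟩ := e.surjective ⟨a, ha⟩
      have := hc k
      rw [hk] at this
      exact Ideal.Quotient.eq_zero_iff_mem.2 this
    rw [(ht _).1 hx] at h0
    haveI := Ideal.Quotient.nontrivial_iff.2 hm.ne_top
    exact bot_ne_top (top_le_iff.1 h0))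
  refine ⟨x, (ht _).2 ?_⟩
  rw [← top_le_iff, ← hx, Ideal.span_le]
  rintro _ ⟨k, rfl⟩
  exact Ideal.subset_span ⟨(e k).1, (e k).2, rfl⟩

section Bundle

variable {D : Type u} [AddCommGroup D] [Module R D]

/-- The algebra map from a symmetric algebra to polynomials given by a linear map to a free module. -/
noncomputable def polyMap {n : ℕ} (i : D →ₗ[R] Fin n → R) :
    SymmetricAlgebra R D →ₐ[R] MvPolynomial (Fin n) R :=
  SymmetricAlgebra.lift (∑ t, ((LinearMap.proj t).comp i).smulRight (MvPolynomial.X t))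

lemma aeval_comp_polyMap {S : Type v} [CommRing S] [Algebra R S] {n : ℕ} (i : D →ₗ[R] Fin n → R)
    (s : Fin n → S) :
    (MvPolynomial.aeval s).comp (polyMap i) =
      SymmetricAlgebra.lift (∑ t, ((LinearMap.proj t).comp i).smulRight (s t)) := by
  apply SymmetricAlgebra.algHom_ext
  ext d
  simp [polyMap, map_sum]

lemma aeval_comp_polyMap_retraction {S : Type v} [CommRing S] [Algebra R S] {n : ℕ}
    (i : D →ₗ[R] Fin n → R) (p : (Fin n → R) →ₗ[R] D) (hpi : p ∘ₗ i = LinearMap.id)
    (f : D →ₗ[R] S) :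
    (MvPolynomial.aeval fun t => f (p (Pi.single t 1))).comp (polyMap i) = SymmetricAlgebra.lift f := by
  rw [aeval_comp_polyMap]
  congr 1
  ext d
  have hd : p (i d) = d := LinearMap.congr_fun hpi d
  conv_rhs => rw [← hd, pi_eq_sum_univ' (i d), map_sum, map_sum]
  simp

lemma mk_comp_eval_comp_polyMap {n : ℕ} (i : D →ₗ[R] Fin n → R) (p : (Fin n → R) →ₗ[R] D)
    (hpi : p ∘ₗ i = LinearMap.id) (m : Ideal R) (φ : D →ₗ[R] R ⧸ m) (x : Fin n → R)
    (hx : ∀ t, Ideal.Quotient.mk m (x t) = φ (p (Pi.single t 1))) :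
    (Ideal.Quotient.mk m).comp ((MvPolynomial.eval x).comp (polyMap i).toRingHom) =
      (SymmetricAlgebra.lift φ).toRingHom := by
  rw [← aeval_comp_polyMap_retraction i p hpi φ]
  ext a
  simp only [RingHom.comp_apply, AlgHom.toRingHom_eq_coe, RingHom.coe_coe, AlgHom.comp_apply]
  rw [← quotient_eval, ← funext hx]
  rfl

/-- Points of quasi-compact opens of vector bundles over LG-rings. -/
theorem exists_bundle_point (hR : LGRing.IsLGRing R) [Module.Finite R D] [Module.Projective R D]
    (U : (Spec (CommRingCat.of (SymmetricAlgebra R D))).Opens)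
    (hU : IsCompact (U : Set ↥(Spec (CommRingCat.of (SymmetricAlgebra R D)))))
    (h : ∀ m : Ideal R, m.IsMaximal → ∃ φ : D →ₗ[R] R ⧸ m,
      Set.range (Spec.map (CommRingCat.ofHom (SymmetricAlgebra.lift φ).toRingHom)).base ⊆
        (U : Set ↥(Spec (CommRingCat.of (SymmetricAlgebra R D))))) :
    ∃ φ : D →ₗ[R] R,
      Set.range (Spec.map (CommRingCat.ofHom (SymmetricAlgebra.lift φ).toRingHom)).base ⊆
        (U : Set ↥(Spec (CommRingCat.of (SymmetricAlgebra R D)))) := by
  obtain ⟨n, i, p, hpi⟩ := LGRingLib.exists_embedding R D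
  obtain ⟨x, hx⟩ := exists_point hR (polyMap i).toRingHom U hU (fun m hm => by
    obtain ⟨φ, hφ⟩ := h m hm
    choose x hx using fun t => Ideal.Quotient.mk_surjective (φ (p (Pi.single t 1)))
    exact ⟨x, by rwa [mk_comp_eval_comp_polyMap i p hpi m φ x hx]⟩)
  refine ⟨∑ t, ((LinearMap.proj t).comp i).smulRight (x t), ?_⟩
  rw [← aeval_comp_polyMap (S := R) i x]
  have he : ((MvPolynomial.aeval x).comp (polyMap i)).toRingHom =
      (MvPolynomial.eval x).comp (polyMap i).toRingHom := by
    refine RingHom.ext fun a => ?_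
    exact congrFun (MvPolynomial.aeval_eq_eval (f := x)) (polyMap i a)
  rwa [he]

/-- Over an infinite residue field, an open of a vector bundle which is dense in the fibre has a
rational point in the fibre. -/
theorem exists_fibre_point [Module.Finite R D] [Module.Projective R D]
    (U : (Spec (CommRingCat.of (SymmetricAlgebra R D))).Opens)
    (hU : IsCompact (U : Set ↥(Spec (CommRingCat.of (SymmetricAlgebra R D)))))
    (m : Ideal R) [hm : m.IsMaximal] [Infinite (R ⧸ m)]
    (hd : Dense ((Spec.map (CommRingCat.ofHom (Ideal.Quotient.mk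
      (Ideal.map (algebraMap R (SymmetricAlgebra R D)) m)))).base ⁻¹'
        (U : Set ↥(Spec (CommRingCat.of (SymmetricAlgebra R D)))))) :
    ∃ φ : D →ₗ[R] R ⧸ m,
      Set.range (Spec.map (CommRingCat.ofHom (SymmetricAlgebra.lift φ).toRingHom)).base ⊆
        (U : Set ↥(Spec (CommRingCat.of (SymmetricAlgebra R D)))) := by
  classical
  obtain ⟨n, i, p, hpi⟩ := LGRingLib.exists_embedding R D
  obtain ⟨t, hmem, ht⟩ := exists_span_criterion U hU
  letI := Ideal.Quotient.field m
  set J := Ideal.map (algebraMap R (SymmetricAlgebra R D)) m with hJ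
  have hJtop : J ≠ ⊤ := by
    intro hJtop
    have : J ≤ Ideal.comap (SymmetricAlgebra.lift (0 : D →ₗ[R] R)).toRingHom m := by
      refine Ideal.map_le_iff_le_comap.2 fun a ha => ?_
      simpa using ha
    rw [hJtop, top_le_iff, Ideal.comap_eq_top_iff] at this
    exact hm.ne_top this
  haveI := Ideal.Quotient.nontrivial_iff.2 hJtop
  haveI : Nonempty ↥(Spec (CommRingCat.of (SymmetricAlgebra R D ⧸ J))) :=
    inferInstanceAs (Nonempty (PrimeSpectrum (SymmetricAlgebra R D ⧸ J)))
  obtain ⟨P, hP⟩ := hd.nonempty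
  obtain ⟨a, ha, haP⟩ := (hmem _).1 hP
  have haJ : a ∉ J := fun haJ => haP (by
    show Ideal.Quotient.mk J a ∈ P.asIdeal
    rw [Ideal.Quotient.eq_zero_iff_mem.2 haJ]
    exact zero_mem _)
  have hne : MvPolynomial.map (Ideal.Quotient.mk m) (polyMap i a) ≠ 0 := by
    intro h0
    apply haJ
    have hmap : polyMap i a ∈ Ideal.map MvPolynomial.C m := by
      rw [MvPolynomial.mem_map_C_iff]
      intro d
      have h1 := congrArg (MvPolynomial.coeff d) h0
      rw [MvPolynomial.coeff_map, MvPolynomial.coeff_zero] at h1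
      exact Ideal.Quotient.eq_zero_iff_mem.1 h1
    let q : MvPolynomial (Fin n) R →ₐ[R] SymmetricAlgebra R D :=
      MvPolynomial.aeval fun t => SymmetricAlgebra.ι R D (p (Pi.single t 1))
    have hq : q (polyMap i a) = a := by
      have := aeval_comp_polyMap_retraction i p hpi (SymmetricAlgebra.ι R D)
      rw [SymmetricAlgebra.lift_ι] at this
      exact DFunLike.congr_fun this a
    have h2 := Ideal.mem_map_of_mem q.toRingHom hmap
    rw [Ideal.map_map] at h2
    have h3 : q.toRingHom.comp MvPolynomial.C = algebraMap R (SymmetricAlgebra R D) := q.comp_algebraMap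
    rw [h3] at h2
    rw [hJ, ← hq]
    exact h2
  obtain ⟨y, hy⟩ : ∃ y : Fin n → R ⧸ m,
      MvPolynomial.eval y (MvPolynomial.map (Ideal.Quotient.mk m) (polyMap i a)) ≠ 0 := by
    by_contra hc
    push Not at hc
    exact hne (MvPolynomial.funext fun y => by rw [hc y, map_zero])
  refine ⟨∑ s, ((LinearMap.proj s).comp i).smulRight (y s), (ht _).2 ?_⟩
  refine Ideal.eq_top_of_isUnit_mem _ (Ideal.subset_span ⟨a, ha, rfl⟩) (Ne.isUnit ?_)
  rw [← aeval_comp_polyMap (S := R ⧸ m) i y]
  rw [MvPolynomial.eval_map] at hy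
  exact hy

end Bundle

end Groth.Agent.LGRingPoints
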